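import Cfsg.Agent.S1304
import Cfsg.Agent.Lib.FStarTools.Basic
import Cfsg.Agent.Lib.MaxPairs.Basic
import Cfsg.Agent.Lib.Balance.Locals
import Cfsg.Agent.Lib.Balance.Permute
import Cfsg.Agent.Lib.Involutions.Basic
import Mathlib.GroupTheory.Transfer

/-!
# The core of C_H(t) acting on the components of H, when O(H) = 1

Owner: helper34. Namespace `Cfsg.Agent.Lib.CoreAction`.
-/

set_option autoImplicit false

open Cfsg Subgroup
open Cfsg.Agent.Lib Cfsg.Agent.Lib.Components
open scoped commutatorElement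

namespace Cfsg.Agent.Lib.CoreAction

section Quasi

variable {K : Type*} [Group K] [Finite K]

/-- A quasisimple group with an odd central quotient has odd order. -/
theorem odd_card_of_odd_index (h : IsQuasisimple K) (hodd : Odd (Subgroup.center K).index) :
    Odd (Nat.card K) := by
  haveI := h.1
  have htriv : ∀ g : K, g ^ (Subgroup.center K).index = 1 := by
    intro g
    have hker : commutator K ≤ (MonoidHom.transferCenterPow K).ker := by
      rw [commutator_def, Subgroup.commutator_le]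
      intro a _ b _
      rw [MonoidHom.mem_ker, map_commutatorElement]
      exact commutatorElement_eq_one_iff_mul_comm.mpr
        (Subtype.ext (Subgroup.mem_center_iff.mp (MonoidHom.transferCenterPow K b).2 _))
    have hg : g ∈ (MonoidHom.transferCenterPow K).ker :=
      hker (by rw [Group.IsPerfect.commutator_eq_top]; trivial)
    simpa using congrArg Subtype.val (MonoidHom.mem_ker.mp hg)
  by_contra hev
  have : 2 ∣ Nat.card K := even_iff_two_dvd.1 (Nat.not_odd_iff_even.1 hev)
  obtain ⟨g, hg⟩ := exists_prime_orderOf_dvd_card' 2 this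
  have := orderOf_dvd_of_pow_eq_one (htriv g)
  rw [hg] at this
  exact (Nat.not_even_iff_odd.2 hodd) (even_iff_two_dvd.2 this)

end Quasi

variable {G : Type*} [Group G] [Finite G] {H : Subgroup G}

theorem mem_center_iff_comm {E : Subgroup G} (x : ↥E) :
    x ∈ Subgroup.center ↥E ↔ ∀ e ∈ E, e * (x : G) = (x : G) * e := by
  rw [Subgroup.mem_center_iff]
  exact ⟨fun h e he => congrArg Subtype.val (h ⟨e, he⟩), fun h g => Subtype.ext (h g g.2)⟩

/-- `O_2(H)` as a subgroup of `G`. -/
def two (H : Subgroup G) : Subgroup G := (pCore 2 ↥H).map H.subtype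

theorem two_le : two H ≤ H := Subgroup.map_subtype_le _

theorem two_isPGroup : IsPGroup 2 ↥(two H) := (Cores.pCore_isPGroup 2).map _

theorem normalizer_le_normalizer_two (H : Subgroup G) :
    Subgroup.normalizer (H : Set G) ≤ Subgroup.normalizer (two H : Set G) := by
  intro g hg
  have hgH : H.map (MulAut.conj g).toMonoidHom = H := Balance.mem_normalizer_iff_cj.1 hg
  refine Balance.mem_normalizer_iff_cj.2 ?_
  show ((pCore 2 ↥H).map H.subtype).map (MulAut.conj g).toMonoidHom = two H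
  let e : ↥H ≃* ↥H := ((MulAut.conj g).subgroupMap H).trans (MulEquiv.subgroupCongr hgH)
  have he : (MulAut.conj g).toMonoidHom.comp H.subtype = H.subtype.comp e.toMonoidHom := by
    ext x; rfl
  rw [Subgroup.map_map, he, ← Subgroup.map_map, Cores.map_pCore_equiv e]
  rfl

/-- A component of `H`, seen in `G`. -/
def Cp (H E : Subgroup G) : Prop := E ≤ H ∧ IsComponent (E.subgroupOf H)

theorem Cp.quasi {E : Subgroup G} (hE : Cp H E) : IsQuasisimple ↥E :=
  MaxPairs.isQuasisimple_of_component hE.1 hE.2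

theorem Cp.conj {E : Subgroup G} (hE : Cp H E) {g : G} (hg : g ∈ Subgroup.normalizer (H : Set G)) :
    Cp H (E.map (MulAut.conj g).toMonoidHom) := by
  have h : H.map (MulAut.conj g).toMonoidHom = H := Balance.mem_normalizer_iff_cj.1 hg
  exact ⟨(Subgroup.map_mono hE.1).trans h.le, MaxPairs.component_map_conj g hE.1 h hE.2⟩

theorem Cp.commute {E E' : Subgroup G} (hE : Cp H E) (hE' : Cp H E') (hne : E ≠ E')
    {a b : G} (ha : a ∈ E) (hb : b ∈ E') : Commute a b := by
  have hne' : E.subgroupOf H ≠ E'.subgroupOf H := by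
    intro h
    have := congrArg (Subgroup.map H.subtype) h
    rw [Subgroup.map_subgroupOf_eq_of_le hE.1, Subgroup.map_subgroupOf_eq_of_le hE'.1] at this
    exact hne this
  have h := Component.le_centralizer_of_ne hE.2 hE'.2 hne'
    (x := (⟨a, hE.1 ha⟩ : ↥H)) ha
  exact (congrArg Subtype.val (Subgroup.mem_centralizer_iff.1 h ⟨b, hE'.1 hb⟩ hb)).symm

theorem two_eq_fitting (hO : oddCore ↥H = ⊥) : two H = (fittingSubgroup ↥H).map H.subtype := by
  rw [two, FStarTools.fitting_eq_pCore hO]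

/-- The centre of a component lies in `O_2(H)`. -/
theorem Cp.center_le_two (hO : oddCore ↥H = ⊥) {E : Subgroup G} (hE : Cp H E) {x : G} (hx : x ∈ E)
    (hc : ∀ e ∈ E, e * x = x * e) : x ∈ two H := by
  rw [two_eq_fitting hO]
  refine ⟨⟨x, hE.1 hx⟩, ?_, rfl⟩
  set Z := (Subgroup.center ↥(E.subgroupOf H)).map (E.subgroupOf H).subtype
  have hsn : Z.IsSubnormal :=
    (Subgroup.Normal.isSubnormal
      (inferInstance : (Subgroup.center ↥(E.subgroupOf H)).Normal)).trans' hE.2.1
  have hnil : Group.IsNilpotent ↥Z := by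
    refine Cores.isNilpotent_map _ ?_
    let _ : CommGroup ↥(Subgroup.center ↥(E.subgroupOf H)) :=
      { (inferInstance : Group ↥(Subgroup.center ↥(E.subgroupOf H))) with
        mul_comm := fun a b => Subtype.ext (Subgroup.mem_center_iff.1 b.2 a) }
    exact CommGroup.isNilpotent (G := ↥(Subgroup.center ↥(E.subgroupOf H)))
  refine Cores.IsSubnormal.le_fittingSubgroup hsn hnil ⟨⟨⟨x, hE.1 hx⟩, hx⟩, ?_, rfl⟩
  refine Subgroup.mem_center_iff.2 fun g => ?_
  exact Subtype.ext (Subtype.ext (hc _ g.2))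

theorem Cp.not_odd (hO : oddCore ↥H = ⊥) {E : Subgroup G} (hE : Cp H E) :
    ¬ Odd (Nat.card ↥E) := by
  intro hodd
  refine Component.ne_bot hE.2 ?_
  have hcop : (Nat.card ↥(E.subgroupOf H)).Coprime 2 := by
    rw [Nat.card_congr (Subgroup.subgroupOfEquivOfLe hE.1).toEquiv]
    exact Nat.coprime_two_right.2 hodd
  have h := Balance.coreIn_eq_inf_of_isSubnormal (p := 2) hE.2.1
  rw [show pPrimeCore 2 ↥H = ⊥ from hO, inf_bot_eq] at h
  refine le_bot_iff.1 (le_trans ?_ h.le)
  exact Balance.le_coreIn le_rfl Subgroup.le_normalizer hcop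

/-- An element outside the centre whose square is central; it may be chosen fixed modulo the centre
by a given involution normalizing the component. -/
theorem Cp.exists_fixed_invol (hO : oddCore ↥H = ⊥) {E : Subgroup G} (hE : Cp H E) {t : G}
    (htt : t * t = 1) (htE : t ∈ Subgroup.normalizer (E : Set G)) :
    ∃ w ∈ E, (∃ e ∈ E, e * w ≠ w * e) ∧ (∀ e ∈ E, e * (w * w) = (w * w) * e) ∧
      ∀ e ∈ E, e * (w⁻¹ * (t * w * t⁻¹)) = (w⁻¹ * (t * w * t⁻¹)) * e := by
  classical
  set Z := Subgroup.center ↥E with hZ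
  have hev : Even (Nat.card (↥E ⧸ Z)) := by
    rw [← Subgroup.index_eq_card, ← Nat.not_odd_iff_even]
    exact fun h => hE.not_odd hO (odd_card_of_odd_index hE.quasi h)
  have hmem : ∀ e : ↥E, t * (e : G) * t⁻¹ ∈ E := fun e =>
    (Subgroup.mem_normalizer_iff.1 htE e).1 e.2
  let a : ↥E →* ↥E := MonoidHom.mk' (fun e => ⟨t * (e : G) * t⁻¹, hmem e⟩)
    (fun x y => Subtype.ext (by simp [mul_assoc]))
  have haa : ∀ e, a (a e) = e := fun e => Subtype.ext (by
    show t * (t * (e : G) * t⁻¹) * t⁻¹ = e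
    rw [inv_eq_of_mul_eq_one_right htt]
    calc t * (t * (e : G) * t) * t = (t * t) * e * (t * t) := by group
      _ = e := by rw [htt]; simp)
  have haZ : Z ≤ Z.comap a := by
    intro z hz
    rw [Subgroup.mem_comap, hZ, Subgroup.mem_center_iff]
    intro g
    have := congrArg a (Subgroup.mem_center_iff.1 hz (a g))
    rwa [map_mul, map_mul, haa] at this
  let b : (↥E ⧸ Z) →* (↥E ⧸ Z) := QuotientGroup.map Z Z a haZ
  have hbb : ∀ q, b (b q) = q := by
    intro q
    induction q using QuotientGroup.induction_on with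
    | H e => simp only [b, QuotientGroup.map_mk, haa]
  let I := {q : ↥E ⧸ Z // orderOf q = 2}
  have : Fintype I := Fintype.ofFinite I
  let f : I → I := fun q => ⟨b q.1, by
    rw [orderOf_injective b (fun x y h => by simpa [hbb] using congrArg b h)]; exact q.2⟩
  let σ : Equiv.Perm I :=
    ⟨f, f, fun q => Subtype.ext (hbb q.1), fun q => Subtype.ext (hbb q.1)⟩
  have hσ : σ ^ 2 ^ 1 = 1 := by
    ext q
    simp [σ, f, pow_two, hbb]
  have hodd : ¬ 2 ∣ Fintype.card I := by
    rw [← Nat.card_eq_fintype_card, ← even_iff_two_dvd, Nat.not_even_iff_odd]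
    exact Involutions.Basic.odd_card_invol hev
  obtain ⟨⟨q, hq⟩, hfix⟩ := Equiv.Perm.exists_fixed_point_of_prime hodd hσ
  have hfix' : b q = q := congrArg Subtype.val hfix
  obtain ⟨w, rfl⟩ := QuotientGroup.mk_surjective q
  refine ⟨w, w.2, ?_, (mem_center_iff_comm (w * w)).1 ?_, ?_⟩
  · by_contra hc
    push Not at hc
    have : w ∈ Z := (mem_center_iff_comm w).2 hc
    rw [← QuotientGroup.eq_one_iff] at this
    rw [this, orderOf_one] at hq
    omega
  · show w * w ∈ Z
    rw [← QuotientGroup.eq_one_iff, QuotientGroup.mk_mul, ← pow_two, ← hq]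
    exact pow_orderOf_eq_one _
  · have h : w⁻¹ * a w ∈ Z := by
      rw [← QuotientGroup.eq_one_iff, QuotientGroup.mk_mul, QuotientGroup.mk_inv]
      have : ((a w : ↥E) : ↥E ⧸ Z) = (w : ↥E ⧸ Z) := hfix'
      rw [this, inv_mul_cancel]
    exact (mem_center_iff_comm _).1 h

/-- An element whose square is one and which has odd order is trivial. -/
theorem eq_one_of_sq {x : G} (hx : Odd (orderOf x)) (h : x * x = 1) : x = 1 := by
  rw [← orderOf_eq_one_iff]
  rcases (Nat.dvd_prime Nat.prime_two).1 (orderOf_dvd_of_pow_eq_one (pow_two x ▸ h)) with h1 | h1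
  · exact h1
  · rw [h1] at hx; exact absurd hx (by decide)

variable {t : G}

theorem odd_of_mem_coreIn {C : Subgroup G} {v : G} (hv : v ∈ Balance.coreIn 2 C) :
    Odd (orderOf v) := by
  have := (Balance.coreIn_coprime (p := 2) C)
  rw [Nat.coprime_two_right] at this
  exact this.of_dvd_nat (Subgroup.orderOf_dvd_natCard _ hv)

theorem eq_one_of_sq_mem_two {v : G} (hv : Odd (orderOf v)) (h : v * v ∈ two H) : v = 1 := by
  obtain ⟨k, hk⟩ := two_isPGroup (H := H) ⟨_, h⟩
  have hk' : (v * v) ^ 2 ^ k = 1 := congrArg Subtype.val hk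
  have hd : orderOf v ∣ 2 ^ (k + 1) := orderOf_dvd_of_pow_eq_one (by
    rw [pow_succ', pow_mul, pow_two, hk'])
  rw [← orderOf_eq_one_iff]
  exact Nat.eq_one_of_dvd_coprimes ((Nat.coprime_two_right.2 hv).pow_right (k + 1)) dvd_rfl hd

/-- `C_H(t)`. -/
def cent (H : Subgroup G) (t : G) : Subgroup G := H ⊓ Subgroup.centralizer ({t} : Set G)

theorem mem_cent {x : G} : x ∈ cent H t ↔ x ∈ H ∧ x * t = t * x := by
  simp [cent, Subgroup.mem_centralizer_singleton_iff, eq_comm]

/-- `O(C_H(t))` centralizes `O_2(H)`. -/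
theorem core_le_centralizer_two (ht : orderOf t = 2)
    (htH : t ∈ Subgroup.normalizer (H : Set G)) :
    Balance.coreIn 2 (cent H t) ≤ Subgroup.centralizer (two H : Set G) := by
  intro y hy
  haveI : Fact (Nat.Prime 2) := ⟨Nat.prime_two⟩
  have hyC := Balance.coreIn_le _ hy
  have hP : IsPGroup 2 ↥(Subgroup.zpowers t) :=
    IsPGroup.of_card (n := 1) (by rw [Nat.card_zpowers, ht, pow_one])
  refine Balance.mem_centralizer_pGroup (two_isPGroup (H := H)) hP
    (Subgroup.zpowers_le.2 (normalizer_le_normalizer_two H htH))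
    (normalizer_le_normalizer_two H (Subgroup.le_normalizer hyC.1))
    (Nat.coprime_two_right.2 (odd_of_mem_coreIn hy)) ?_ ?_
  · rw [Subgroup.zpowers_eq_closure, Subgroup.centralizer_closure]
    exact hyC.2
  · rintro q ⟨hqQ, hqt⟩
    rw [Subgroup.zpowers_eq_closure, Subgroup.centralizer_closure] at hqt
    have hqC : q ∈ cent H t := ⟨two_le hqQ, hqt⟩
    rw [Subgroup.mem_centralizer_singleton_iff]
    have h1 : q * y * q⁻¹ * y⁻¹ ∈ Balance.coreIn 2 (cent H t) :=
      Subgroup.mul_mem _ ((Subgroup.mem_normalizer_iff.1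
        (Balance.le_normalizer_coreIn _ hqC) y).1 hy) (Subgroup.inv_mem _ hy)
    have h2 : q * y * q⁻¹ * y⁻¹ ∈ two H := by
      have := (Subgroup.mem_normalizer_iff.1
        (normalizer_le_normalizer_two H (Subgroup.le_normalizer hyC.1)) q⁻¹).1
          (Subgroup.inv_mem _ hqQ)
      have h3 := Subgroup.mul_mem _ hqQ this
      simpa [mul_assoc] using h3
    have h3 := eq_one_of_sq_mem_two (odd_of_mem_coreIn h1) (Subgroup.mul_mem _ h2 h2)
    exact mul_inv_eq_iff_eq_mul.1 (mul_inv_eq_one.1 h3)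

theorem cj_mem {E : Subgroup G} (g : G) {e : G} (he : e ∈ E) :
    g * e * g⁻¹ ∈ E.map (MulAut.conj g).toMonoidHom := ⟨e, he, rfl⟩

section Main

variable (hO : oddCore ↥H = ⊥) (ht : orderOf t = 2) (htH : t ∈ Subgroup.normalizer (H : Set G))
include hO ht htH

/-- A component fixed by `t` is normalized by `O(C_H(t))`. -/
theorem mem_normalizer_of_fixed {E : Subgroup G} (hE : Cp H E)
    (hEt : E.map (MulAut.conj t).toMonoidHom = E) {y : G}
    (hy : y ∈ Balance.coreIn 2 (cent H t)) : y ∈ Subgroup.normalizer (E : Set G) := by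
  have htt : t * t = 1 := by rw [← pow_two, ← ht, pow_orderOf_eq_one]
  obtain ⟨w, hwE, hnc, hsq, hfix⟩ :=
    hE.exists_fixed_invol hO htt (Balance.mem_normalizer_iff_cj.2 hEt)
  have hyC := Balance.coreIn_le _ hy
  have hyQ := core_le_centralizer_two ht htH hy
  have hwH := hE.1 hwE
  by_contra hne
  have hne' : E ≠ E.map (MulAut.conj y).toMonoidHom := fun h =>
    hne (Balance.mem_normalizer_iff_cj.2 h.symm)
  set C'' := cent H t ⊓ Subgroup.centralizer (two H : Set G) with hC''
  have hnormC : ∀ u : G, u ∈ H → (∃ q ∈ two H, t * u * t⁻¹ = u * q) →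
      ∀ c ∈ C'', u * c * u⁻¹ ∈ C'' := by
    rintro u hu ⟨q, hq, hqu⟩ c ⟨hc, hcQ⟩
    have hc' := mem_cent.1 hc
    refine ⟨mem_cent.2 ⟨Subgroup.mul_mem _ (Subgroup.mul_mem _ hu hc'.1)
      (Subgroup.inv_mem _ hu), ?_⟩, Subgroup.mem_centralizer_iff.2 fun r hr => ?_⟩
    · have h1 : t * (u * c * u⁻¹) * t⁻¹ = u * c * u⁻¹ := by
        have h2 : t * c * t⁻¹ = c := mul_inv_eq_iff_eq_mul.2 hc'.2.symm
        have h3 : q * c * q⁻¹ = c := mul_inv_eq_iff_eq_mul.2 (Subgroup.mem_centralizer_iff.1 hcQ q hq)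
        calc t * (u * c * u⁻¹) * t⁻¹
            = (t * u * t⁻¹) * (t * c * t⁻¹) * (t * u * t⁻¹)⁻¹ := by group
          _ = u * (q * c * q⁻¹) * u⁻¹ := by rw [h2, hqu]; group
          _ = _ := by rw [h3]
      exact (mul_inv_eq_iff_eq_mul.1 h1).symm
    · have hr' : u⁻¹ * r * u ∈ two H := by
        have := (Subgroup.mem_normalizer_iff.1
          (normalizer_le_normalizer_two H (Subgroup.le_normalizer (H.inv_mem hu))) r).1 hr
        simpa using this
      have h := Subgroup.mem_centralizer_iff.1 hcQ _ hr'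
      calc r * (u * c * u⁻¹) = u * ((u⁻¹ * r * u) * c) * u⁻¹ := by group
        _ = u * (c * (u⁻¹ * r * u)) * u⁻¹ := by rw [h]
        _ = _ := by group
  have hz : w⁻¹ * (t * w * t⁻¹) ∈ two H :=
    hE.center_le_two hO (E.mul_mem (E.inv_mem hwE) (hEt.le (cj_mem t hwE))) hfix
  set z := w⁻¹ * (t * w * t⁻¹) with hzdef
  have hwinv : ∃ q ∈ two H, t * w⁻¹ * t⁻¹ = w⁻¹ * q := by
    refine ⟨w * z⁻¹ * w⁻¹, (Subgroup.mem_normalizer_iff.1
      (normalizer_le_normalizer_two H (Subgroup.le_normalizer hwH)) _).1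
        (Subgroup.inv_mem _ hz), ?_⟩
    rw [hzdef]; group
  have hwC'' : w ∈ Subgroup.normalizer (C'' : Set G) := by
    refine Subgroup.mem_normalizer_iff.2 fun c => ⟨fun hc =>
      hnormC w hwH ⟨z, hz, by rw [hzdef]; group⟩ c hc, fun hc => ?_⟩
    have := hnormC w⁻¹ (H.inv_mem hwH) hwinv _ hc
    simpa [mul_assoc] using this
  have hO1 : Balance.coreIn 2 (cent H t) ≤ Balance.coreIn 2 C'' :=
    Balance.le_coreIn (le_inf (Balance.coreIn_le _) (core_le_centralizer_two ht htH))
      (inf_le_left.trans (Balance.le_normalizer_coreIn _)) (Balance.coreIn_coprime _)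
  have hn2 : cent H t ≤ Subgroup.normalizer (C'' : Set G) := by
    intro c hc
    refine Subgroup.mem_normalizer_iff.2 fun d => ⟨fun hd => ?_, fun hd => ?_⟩
    · exact hnormC c hc.1 ⟨1, one_mem _, by
        rw [mul_one]; exact mul_inv_eq_iff_eq_mul.2 (mem_cent.1 hc).2.symm⟩ d hd
    · have hc' := (cent H t).inv_mem hc
      have := hnormC c⁻¹ hc'.1 ⟨1, one_mem _, by
        rw [mul_one]; exact mul_inv_eq_iff_eq_mul.2 (mem_cent.1 hc').2.symm⟩ _ hd
      simpa [mul_assoc] using this
  have hO2 : Balance.coreIn 2 C'' ≤ Balance.coreIn 2 (cent H t) :=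
    Balance.le_coreIn ((Balance.coreIn_le _).trans inf_le_left)
      (hn2.trans (Balance.normalizer_le_normalizer_coreIn _)) (Balance.coreIn_coprime _)
  have hwy : w * y * w⁻¹ ∈ Balance.coreIn 2 (cent H t) :=
    hO2 ((Subgroup.mem_normalizer_iff.1 (Balance.normalizer_le_normalizer_coreIn _ hwC'') y).1
      (hO1 hy))
  have hv : Odd (orderOf (w * (y * w⁻¹ * y⁻¹))) := by
    have := odd_of_mem_coreIn (Subgroup.mul_mem _ hwy (Subgroup.inv_mem _ hy))
    simpa [mul_assoc] using this
  have hE' := hE.conj (Subgroup.le_normalizer hyC.1)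
  have hcm : Commute w (y * w⁻¹ * y⁻¹) :=
    hE.commute hE' hne' hwE (cj_mem y (E.inv_mem hwE))
  have hw2 : w * w ∈ two H := hE.center_le_two hO (E.mul_mem hwE hwE) hsq
  have h1 := eq_one_of_sq hv (by
    have e : Commute (w * w) y := Subgroup.mem_centralizer_iff.1 hyQ _ hw2
    calc w * (y * w⁻¹ * y⁻¹) * (w * (y * w⁻¹ * y⁻¹))
        = (w * w) * ((y * w⁻¹ * y⁻¹) * (y * w⁻¹ * y⁻¹)) := by
          rw [mul_assoc, ← mul_assoc _ w, ← hcm.eq]; group
      _ = (w * w) * y * (w * w)⁻¹ * y⁻¹ := by group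
      _ = 1 := by rw [e.eq]; group)
  obtain ⟨e, heE, he⟩ := hnc
  refine he (hE.commute hE' hne' heE ?_).eq
  have : w = y * w * y⁻¹ := by
    calc w = (y * w⁻¹ * y⁻¹)⁻¹ := mul_eq_one_iff_eq_inv.1 h1
      _ = y * w * y⁻¹ := by group
  rw [this]
  exact cj_mem y hwE

/-- A homomorphism from a component into `C_H(t)`, not killing it, detects the action of the core. -/
theorem mem_centralizer_of_hom {E : Subgroup G} (hE : Cp H E) (φ : ↥E →* G)
    (hφ : ∀ e, φ e ∈ cent H t) (w : ↥E) (hw : φ w ≠ 1) (hw2 : φ (w * w) ∈ two H) {y : G}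
    (hy : y ∈ Balance.coreIn 2 (cent H t)) (hyE : y ∈ Subgroup.normalizer (E : Set G))
    (hc : ∀ e e' : ↥E, (e' : G) = y * (e : G) * y⁻¹ → φ e' = y * φ e * y⁻¹) :
    y ∈ Subgroup.centralizer (E : Set G) := by
  set N := (Balance.coreIn 2 (cent H t)).comap φ with hN
  have hNn : N.Normal := ⟨fun n hn g => by
    rw [hN, Subgroup.mem_comap, map_mul, map_mul, map_inv]
    exact (Subgroup.mem_normalizer_iff.1 (Balance.le_normalizer_coreIn _ (hφ g)) _).1 hn⟩
  have hwN : w ∉ N := by
    intro h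
    refine hw (eq_one_of_sq_mem_two (H := H) (odd_of_mem_coreIn h) ?_)
    rwa [← map_mul]
  have hNZ : N ≤ Subgroup.center ↥E :=
    (Quasisimple.normal_le_center_or_eq_top hE.quasi hNn).resolve_right
      fun h => hwN (h ▸ Subgroup.mem_top w)
  have hmem : ∀ e : ↥E, y * (e : G) * y⁻¹ ∈ E := fun e =>
    (Subgroup.mem_normalizer_iff.1 hyE e).1 e.2
  let α : ↥E ≃* ↥E :=
    ((MulAut.conj y).subgroupMap E).trans
      (MulEquiv.subgroupCongr (Balance.mem_normalizer_iff_cj.1 hyE))
  have hα : ∀ e : ↥E, ((α e : ↥E) : G) = y * (e : G) * y⁻¹ := fun e => rfl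
  have hperf : commutator ↥E = ⊤ := hE.quasi.1.commutator_eq_top
  have hid : ∀ x, α x = x := by
    refine Cfsg.Agent.S1304.result hperf α fun x => hNZ ?_
    rw [hN, Subgroup.mem_comap, map_mul, map_inv, hc x (α x) (hα x)]
    have := Subgroup.mul_mem _ hy ((Subgroup.mem_normalizer_iff.1
      (Balance.le_normalizer_coreIn _ (hφ x)) _).1 (Subgroup.inv_mem _ hy))
    simpa [mul_assoc] using this
  refine Subgroup.mem_centralizer_iff.2 fun e he => ?_
  have := congrArg Subtype.val (hid ⟨e, he⟩)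
  rw [hα] at this
  exact (mul_inv_eq_iff_eq_mul.1 this).symm

/-- A component centralized by `t` is centralized by `O(C_H(t))`. -/
theorem mem_centralizer_of_centralized {E : Subgroup G} (hE : Cp H E)
    (htE : t ∈ Subgroup.centralizer (E : Set G)) {y : G}
    (hy : y ∈ Balance.coreIn 2 (cent H t)) : y ∈ Subgroup.centralizer (E : Set G) := by
  have hn : t ∈ Subgroup.normalizer (E : Set G) := Subgroup.centralizer_le_normalizer _ htE
  have htt : t * t = 1 := by rw [← pow_two, ← ht, pow_orderOf_eq_one]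
  obtain ⟨w, hwE, ⟨e, heE, he⟩, hsq, -⟩ := hE.exists_fixed_invol hO htt hn
  refine mem_centralizer_of_hom hO ht htH hE E.subtype
    (fun e => mem_cent.2 ⟨hE.1 e.2, Subgroup.mem_centralizer_iff.1 htE e e.2⟩) ⟨w, hwE⟩
    (fun h => he (by rw [show w = 1 from h, mul_one, one_mul]))
    (hE.center_le_two hO (E.mul_mem hwE hwE) hsq) hy
    (mem_normalizer_of_fixed hO ht htH hE (Balance.mem_normalizer_iff_cj.1 hn) hy)
    (fun e e' h => h)

/-- A component moved by `t` is centralized by `O(C_H(t))`. -/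
theorem mem_centralizer_of_moved {E : Subgroup G} (hE : Cp H E)
    (hne : E.map (MulAut.conj t).toMonoidHom ≠ E) {y : G}
    (hy : y ∈ Balance.coreIn 2 (cent H t)) : y ∈ Subgroup.centralizer (E : Set G) := by
  have htt : t * t = 1 := by rw [← pow_two, ← ht, pow_orderOf_eq_one]
  have hti : t⁻¹ = t := inv_eq_of_mul_eq_one_right htt
  set E1 := E.map (MulAut.conj t).toMonoidHom with hE1def
  have hE1 : Cp H E1 := hE.conj htH
  have hcm : ∀ a ∈ E, ∀ b ∈ E1, Commute a b := fun a ha b hb => hE.commute hE1 (Ne.symm hne) ha hb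
  have htE1 : E1.map (MulAut.conj t).toMonoidHom = E := by
    ext x
    constructor
    · rintro ⟨_, ⟨e, he, rfl⟩, rfl⟩
      show t * (t * e * t⁻¹) * t⁻¹ ∈ E
      rw [hti, show t * (t * e * t) * t = (t * t) * e * (t * t) by group, htt]
      simpa using he
    · intro hx
      refine ⟨t * x * t⁻¹, cj_mem t hx, ?_⟩
      show t * (t * x * t⁻¹) * t⁻¹ = x
      rw [hti, show t * (t * x * t) * t = (t * t) * x * (t * t) by group, htt]
      simp
  let φ : ↥E →* G := MonoidHom.mk' (fun e => (e : G) * (t * e * t⁻¹)) (fun a b => by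
    have := (hcm b b.2 _ (cj_mem t a.2)).eq
    calc ((a : G) * b) * (t * (a * b) * t⁻¹)
        = (a : G) * ((b : G) * (t * a * t⁻¹)) * (t * b * t⁻¹) := by group
      _ = (a : G) * ((t * a * t⁻¹) * b) * (t * b * t⁻¹) := by rw [this]
      _ = _ := by group)
  have hφ : ∀ e, φ e ∈ cent H t := by
    intro e
    refine mem_cent.2 ⟨H.mul_mem (hE.1 e.2) (hE1.1 (cj_mem t e.2)), ?_⟩
    show (e : G) * (t * e * t⁻¹) * t = t * ((e : G) * (t * e * t⁻¹))
    have := (hcm e e.2 _ (cj_mem t e.2)).eq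
    calc (e : G) * (t * e * t⁻¹) * t = (e : G) * t * e := by group
      _ = (t * t) * e * t⁻¹ * e := by rw [htt, hti, one_mul]
      _ = t * ((t * e * t⁻¹) * e) := by group
      _ = _ := by rw [this]
  have hyC := Balance.coreIn_le _ hy
  have hyQ := core_le_centralizer_two ht htH hy
  have hyH := Subgroup.le_normalizer hyC.1
  have hyt : y * t = t * y := (mem_cent.1 hyC).2
  obtain ⟨w, hwE, ⟨e0, he0E, he0⟩, hsq, -⟩ :=
    hE.exists_fixed_invol hO (one_mul 1) (Subgroup.one_mem _)
  have hw2 : w * w ∈ two H := hE.center_le_two hO (E.mul_mem hwE hwE) hsq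
  have hwφ : φ (⟨w, hwE⟩ * ⟨w, hwE⟩) ∈ two H :=
    Subgroup.mul_mem _ hw2 ((Subgroup.mem_normalizer_iff.1
      (normalizer_le_normalizer_two H htH) _).1 hw2)
  have hw1 : φ ⟨w, hwE⟩ ≠ 1 := by
    intro h
    refine he0 (hcm e0 he0E w ?_).eq
    have h' : w = (t * w * t⁻¹)⁻¹ := eq_inv_of_mul_eq_one_left h
    rw [h']
    exact E1.inv_mem (cj_mem t hwE)
  set E' := E.map (MulAut.conj y).toMonoidHom with hE'def
  have hE' : Cp H E' := hE.conj hyH
  set E'' := E1.map (MulAut.conj y).toMonoidHom with hE''def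
  have hE'' : Cp H E'' := hE1.conj hyH
  have hco : E''= E'.map (MulAut.conj t).toMonoidHom := by
    rw [hE''def, hE1def, hE'def, Subgroup.map_map, Subgroup.map_map]
    congr 1
    ext x
    show y * (t * x * t⁻¹) * y⁻¹ = t * (y * x * y⁻¹) * t⁻¹
    calc y * (t * x * t⁻¹) * y⁻¹ = (y * t) * x * (y * t)⁻¹ := by group
      _ = _ := by rw [hyt]; group
  have hor : E' = E ∨ E' = E1 := by
    by_contra hcon
    push Not at hcon
    have h''E : E'' ≠ E := fun h => hcon.2 (by
      have := congrArg (Subgroup.map (MulAut.conj t).toMonoidHom) (hco ▸ h)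
      rw [hE1def, ← this, Subgroup.map_map]
      conv_lhs => rw [← Subgroup.map_id E']
      congr 1
      ext x
      show x = t * (t * x * t⁻¹) * t⁻¹
      rw [hti, show t * (t * x * t) * t = (t * t) * x * (t * t) by group, htt]
      simp)
    have h''E1 : E'' ≠ E1 := fun h => hcon.1
      (Subgroup.map_injective (MulAut.conj t).injective (hco ▸ h))
    set d := φ ⟨w, hwE⟩ with hddef
    have hd : d ∈ cent H t := hφ _
    have hv : Odd (orderOf (d * (y * d⁻¹ * y⁻¹))) := by
      have := odd_of_mem_coreIn (Subgroup.mul_mem _ ((Subgroup.mem_normalizer_iff.1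
        (Balance.le_normalizer_coreIn _ hd) y).1 hy) (Subgroup.inv_mem _ hy))
      simpa [mul_assoc] using this
    set a := y * w * y⁻¹ with hadef
    set b := y * (t * w * t⁻¹) * y⁻¹ with hbdef
    have ha : a ∈ E' := cj_mem y hwE
    have hb : b ∈ E'' := cj_mem y (cj_mem t hwE)
    have hyd : y * d * y⁻¹ = a * b := by
      show y * (w * (t * w * t⁻¹)) * y⁻¹ = _
      rw [hadef, hbdef]; group
    have hdy : Commute d (y * d⁻¹ * y⁻¹) := by
      have h1 : Commute w (a * b) :=
        (hE.commute hE' hcon.1.symm hwE ha).mul_right (hE.commute hE'' h''E.symm hwE hb)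
      have h2 : Commute (t * w * t⁻¹) (a * b) :=
        (hE1.commute hE' hcon.2.symm (cj_mem t hwE) ha).mul_right
          (hE1.commute hE'' h''E1.symm (cj_mem t hwE) hb)
      have h3 : Commute d (y * d * y⁻¹) := hyd ▸ h1.mul_left h2
      rw [show y * d⁻¹ * y⁻¹ = (y * d * y⁻¹)⁻¹ by group]
      exact h3.inv_right
    have h1 := eq_one_of_sq hv (by
      have hdd : d * d ∈ two H := by rw [hddef, ← map_mul]; exact hwφ
      have e : Commute (d * d) y := Subgroup.mem_centralizer_iff.1 hyQ _ hdd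
      calc d * (y * d⁻¹ * y⁻¹) * (d * (y * d⁻¹ * y⁻¹))
          = (d * d) * ((y * d⁻¹ * y⁻¹) * (y * d⁻¹ * y⁻¹)) := by
            rw [mul_assoc, ← mul_assoc _ d, ← hdy.eq]; group
        _ = (d * d) * y * (d * d)⁻¹ * y⁻¹ := by group
        _ = 1 := by rw [e.eq]; group)
    have h2 : w = a * b * (t * w * t⁻¹)⁻¹ := by
      rw [← hyd, eq_mul_inv_iff_mul_eq]
      show d = _
      rw [show y * d⁻¹ * y⁻¹ = (y * d * y⁻¹)⁻¹ by group, mul_inv_eq_one] at h1
      exact h1
    refine he0 ?_
    have h3 : Commute e0 (a * b * (t * w * t⁻¹)⁻¹) :=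
      ((hE.commute hE' hcon.1.symm he0E ha).mul_right
        (hE.commute hE'' h''E.symm he0E hb)).mul_right
        (hcm e0 he0E _ (E1.inv_mem (cj_mem t hwE)))
    rw [← h2] at h3
    exact h3.eq
  have hyE : y ∈ Subgroup.normalizer (E : Set G) := by
    rcases hor with h | h
    · exact Balance.mem_normalizer_iff_cj.2 h
    · have h2 : y * y ∈ Subgroup.normalizer (E : Set G) := by
        refine Balance.mem_normalizer_iff_cj.2 ?_
        show E.map (MulAut.conj (y * y)).toMonoidHom = E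
        have : E.map (MulAut.conj (y * y)).toMonoidHom = E'.map (MulAut.conj y).toMonoidHom := by
          rw [hE'def, Subgroup.map_map]
          congr 1
          ext x
          simp [MulAut.conj_apply, mul_assoc]
        rw [this, h, ← hE''def, hco, h, htE1]
      obtain ⟨k, hk⟩ := odd_of_mem_coreIn hy
      have : y = ((y * y) ^ k)⁻¹ := by
        apply eq_inv_of_mul_eq_one_left
        rw [← pow_two, ← pow_mul, ← pow_succ', ← hk, pow_orderOf_eq_one]
      rw [this]
      exact Subgroup.inv_mem _ (Subgroup.pow_mem _ h2 k)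
  refine mem_centralizer_of_hom hO ht htH hE φ hφ ⟨w, hwE⟩ hw1 hwφ hy hyE ?_
  intro e e' h
  show (e' : G) * (t * e' * t⁻¹) = y * ((e : G) * (t * e * t⁻¹)) * y⁻¹
  rw [h]
  calc y * e * y⁻¹ * (t * (y * e * y⁻¹) * t⁻¹)
      = y * e * y⁻¹ * ((t * y) * e * (t * y)⁻¹) := by group
    _ = _ := by rw [← hyt]; group

end Main

end Cfsg.Agent.Lib.CoreAction
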